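import Mathlib

/-! Finite projective modules over a ring complete for a filtration by ideals in the Jacobson
radical: detection on the quotients. -/

set_option autoImplicit false

universe u v

namespace Groth.Agent.H8.WProj

open Submodule

variable {A : Type u} [CommRing A]

section Basic

variable {M : Type v} [AddCommGroup M] [Module A M] {N : Type*} [AddCommGroup N] [Module A N]

theorem smul_top_quotient_eq_bot {I' I : Ideal A} (h : I' ≤ I) :
    I' • (⊤ : Submodule A (M ⧸ (I • (⊤ : Submodule A M)))) = ⊥ := by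
  rw [eq_bot_iff]
  calc I' • (⊤ : Submodule A (M ⧸ (I • (⊤ : Submodule A M))))
      ≤ I • (⊤ : Submodule A (M ⧸ (I • (⊤ : Submodule A M)))) := Submodule.smul_mono_left h
    _ = I • (map (I • (⊤ : Submodule A M)).mkQ ⊤) := by rw [Submodule.map_top, range_mkQ]
    _ = map (I • (⊤ : Submodule A M)).mkQ (I • ⊤) := (Submodule.map_smul'' _ _ _).symm
    _ = ⊥ := mkQ_map_self _

/-- A linear map into `M ⧸ I • ⊤` kills `I' • ⊤` for `I' ≤ I`. -/
theorem kills {I' I : Ideal A} (h : I' ≤ I) (f : N →ₗ[A] M ⧸ (I • (⊤ : Submodule A M))) {z : N}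
    (hz : z ∈ I' • (⊤ : Submodule A N)) : f z = 0 := by
  have h1 : f z ∈ map f (I' • (⊤ : Submodule A N)) := Submodule.mem_map_of_mem hz
  rw [Submodule.map_smul''] at h1
  have h2 : I' • map f ⊤ ≤ I' • (⊤ : Submodule A (M ⧸ (I • (⊤ : Submodule A M)))) :=
    Submodule.smul_mono le_rfl le_top
  have h3 := h2 h1
  rw [smul_top_quotient_eq_bot h, Submodule.mem_bot] at h3
  exact h3

theorem kills_le_ker {I' I : Ideal A} (h : I' ≤ I) (f : N →ₗ[A] M ⧸ (I • (⊤ : Submodule A M))) :
    I' • (⊤ : Submodule A N) ≤ LinearMap.ker f :=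
  fun _ hz => LinearMap.mem_ker.mpr (kills h f hz)

theorem ker_factor_smul_top {I' I : Ideal A} (h : I' ≤ I) :
    LinearMap.ker (factor (Submodule.smul_mono_left h :
      I' • (⊤ : Submodule A M) ≤ I • (⊤ : Submodule A M))) =
      I • (⊤ : Submodule A (M ⧸ (I' • (⊤ : Submodule A M)))) := by
  apply le_antisymm
  · intro y hy
    obtain ⟨x, rfl⟩ := mkQ_surjective _ y
    rw [LinearMap.mem_ker, factor_mk, mkQ_apply, Submodule.Quotient.mk_eq_zero] at hy
    have : (I' • (⊤ : Submodule A M)).mkQ x ∈ map (I' • (⊤ : Submodule A M)).mkQ (I • ⊤) :=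
      Submodule.mem_map_of_mem hy
    rw [Submodule.map_smul'', Submodule.map_top, range_mkQ] at this
    exact this
  · exact kills_le_ker le_rfl _

theorem mem_smul_top_pi {ι : Type*} [Fintype ι] [DecidableEq ι] (I : Ideal A) (x : ι → A) :
    x ∈ I • (⊤ : Submodule A (ι → A)) ↔ ∀ i, x i ∈ I := by
  constructor
  · intro h
    refine Submodule.smul_induction_on h ?_ ?_
    · intro a ha y _ i
      exact I.mul_mem_right _ ha
    · intro y z hy hz i
      exact I.add_mem (hy i) (hz i)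
  · intro h
    have : x = ∑ i, x i • (Pi.single i 1 : ι → A) := by
      funext j
      simp [Finset.sum_apply, Pi.single_apply]
    rw [this]
    exact Submodule.sum_mem _ fun i _ => Submodule.smul_mem_smul (h i) mem_top

/-- Nakayama. -/
theorem eq_top_of_sup_smul_top [Module.Finite A M] {I : Ideal A} (hI : I ≤ Ideal.jacobson ⊥)
    (N' : Submodule A M) (h : ∀ y : M, ∃ n ∈ N', y - n ∈ I • (⊤ : Submodule A M)) : N' = ⊤ := by
  rw [eq_top_iff]
  apply Submodule.le_of_le_smul_of_le_jacobson_bot (I := I) Module.Finite.fg_top hI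
  intro y _
  obtain ⟨n, hn, hy⟩ := h y
  have : y = n + (y - n) := by abel
  rw [this]
  exact Submodule.add_mem_sup hn hy

end Basic


section Main

variable (J : ℕ → Ideal A) {P : Type v} [AddCommGroup P] [Module A P]

/-- The quotient `M / J_n M`. -/
abbrev Quo (M : Type*) [AddCommGroup M] [Module A M] (n : ℕ) : Type _ :=
  M ⧸ (J n • (⊤ : Submodule A M))

variable {r : ℕ} (φ : (Fin r → A) →ₗ[A] P)

/-- The map induced by `φ` on the quotients. -/
noncomputable abbrev phiQ (n : ℕ) : Quo J (Fin r → A) n →ₗ[A] Quo J P n :=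
  mapQ _ _ φ (Submodule.smul_top_le_comap_smul_top (J n) φ)

theorem step (hanti : Antitone J) (hjac : J 0 ≤ Ideal.jacobson ⊥) (n : ℕ)
    (hfin : Module.Finite A (Quo J P (n + 1)))
    (hσ : ∃ σ' : Quo J P (n + 1) →ₗ[A] Quo J (Fin r → A) (n + 1),
      (phiQ J φ (n + 1)) ∘ₗ σ' = LinearMap.id)
    (s : P →ₗ[A] Quo J (Fin r → A) n)
    (hs : ∀ x, phiQ J φ n (s x) = (J n • (⊤ : Submodule A P)).mkQ x) :
    ∃ s' : P →ₗ[A] Quo J (Fin r → A) (n + 1),
      (∀ x, phiQ J φ (n + 1) (s' x) = (J (n + 1) • (⊤ : Submodule A P)).mkQ x) ∧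
      ∀ x, factor (Submodule.smul_mono_left (hanti (Nat.le_succ n))) (s' x) = s x := by
  obtain ⟨σ', hσ'⟩ := hσ
  have hle : J (n + 1) ≤ J n := hanti (Nat.le_succ n)
  have hleQ : J (n + 1) • (⊤ : Submodule A (Fin r → A)) ≤ J n • ⊤ := Submodule.smul_mono_left hle
  have hleP : J (n + 1) • (⊤ : Submodule A P) ≤ J n • ⊤ := Submodule.smul_mono_left hle
  -- the lift `G`
  have hπsurj : Function.Surjective (factor hleQ) := factor_surjective hleQ
  choose lift hlift using hπsurj
  let G : (Fin r → A) →ₗ[A] Quo J (Fin r → A) (n + 1) :=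
    (Pi.basisFun A (Fin r)).constr A (fun i => lift (s (φ (Pi.single i 1))))
  have hG : ∀ q, factor hleQ (G q) = s (φ q) := by
    have : (factor hleQ) ∘ₗ G = s ∘ₗ φ := by
      apply (Pi.basisFun A (Fin r)).ext
      intro i
      rw [LinearMap.comp_apply, LinearMap.comp_apply]
      have h0 : G ((Pi.basisFun A (Fin r)) i) = lift (s (φ (Pi.single i 1))) :=
        Module.Basis.constr_basis _ _ _ i
      rw [h0, hlift, Pi.basisFun_apply]
    exact fun q => LinearMap.congr_fun this q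
  let Gt : Quo J (Fin r → A) (n + 1) →ₗ[A] Quo J (Fin r → A) (n + 1) :=
    liftQ _ G (kills_le_ker le_rfl G)
  let t : P →ₗ[A] Quo J (Fin r → A) (n + 1) := Gt ∘ₗ σ' ∘ₗ (J (n + 1) • (⊤ : Submodule A P)).mkQ
  have ht : ∀ x, factor hleQ (t x) = s x := by
    intro x
    obtain ⟨q, hq⟩ := mkQ_surjective _ (σ' ((J (n + 1) • (⊤ : Submodule A P)).mkQ x))
    have h1 : t x = G q := by
      change Gt (σ' ((J (n + 1) • (⊤ : Submodule A P)).mkQ x)) = G q
      rw [← hq]
      rfl
    rw [h1, hG]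
    have h2 : (J (n + 1) • (⊤ : Submodule A P)).mkQ (φ q) =
        (J (n + 1) • (⊤ : Submodule A P)).mkQ x := by
      have := LinearMap.congr_fun hσ' ((J (n + 1) • (⊤ : Submodule A P)).mkQ x)
      rw [LinearMap.comp_apply, ← hq] at this
      exact this
    have h3 : φ q - x ∈ J (n + 1) • (⊤ : Submodule A P) := (Submodule.Quotient.eq _).mp h2
    have h4 : s (φ q - x) = 0 := kills hle s h3
    rw [map_sub, sub_eq_zero] at h4
    exact h4
  -- the unipotent endomorphism `u`
  let u : P →ₗ[A] Quo J P (n + 1) := (phiQ J φ (n + 1)) ∘ₗ t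
  let ut : Quo J P (n + 1) →ₗ[A] Quo J P (n + 1) := liftQ _ u (kills_le_ker le_rfl u)
  have hut : ∀ y, factor hleP (ut y) = factor hleP y := by
    intro y
    obtain ⟨x, rfl⟩ := mkQ_surjective _ y
    change factor hleP (phiQ J φ (n + 1) (t x)) = (J n • (⊤ : Submodule A P)).mkQ x
    rw [← hs x, ← ht x]
    obtain ⟨q, hq⟩ := mkQ_surjective _ (t x)
    rw [← hq]
    rfl
  have hutsurj : Function.Surjective ut := by
    rw [← LinearMap.range_eq_top]
    apply eq_top_of_sup_smul_top (I := J n) ((hanti (Nat.zero_le n)).trans hjac)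
    intro y
    refine ⟨ut y, LinearMap.mem_range_self _ _, ?_⟩
    rw [← ker_factor_smul_top hle, LinearMap.mem_ker, map_sub, hut, sub_self]
  have hutinj : Function.Injective ut :=
    OrzechProperty.injective_of_surjective_endomorphism ut hutsurj
  let e := LinearEquiv.ofBijective ut ⟨hutinj, hutsurj⟩
  let tt : Quo J P (n + 1) →ₗ[A] Quo J (Fin r → A) (n + 1) := liftQ _ t (kills_le_ker le_rfl t)
  have hφtt : ∀ y, phiQ J φ (n + 1) (tt y) = ut y := by
    intro y
    obtain ⟨x, rfl⟩ := mkQ_surjective _ y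
    rfl
  refine ⟨tt ∘ₗ e.symm.toLinearMap ∘ₗ (J (n + 1) • (⊤ : Submodule A P)).mkQ, ?_, ?_⟩
  · intro x
    change phiQ J φ (n + 1) (tt (e.symm ((J (n + 1) • (⊤ : Submodule A P)).mkQ x))) = _
    rw [hφtt]
    exact e.apply_symm_apply _
  · intro x
    change factor hleQ (tt (e.symm ((J (n + 1) • (⊤ : Submodule A P)).mkQ x))) = s x
    obtain ⟨x', hx'⟩ := mkQ_surjective _ (e.symm ((J (n + 1) • (⊤ : Submodule A P)).mkQ x))
    rw [← hx']
    change factor hleQ (t x') = s x
    rw [ht]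
    have h1 : (J (n + 1) • (⊤ : Submodule A P)).mkQ x =
        ut ((J (n + 1) • (⊤ : Submodule A P)).mkQ x') := by
      rw [hx']
      exact (e.apply_symm_apply _).symm
    have h2 := congrArg (factor hleP) h1
    rw [hut, factor_mk, factor_mk] at h2
    have h3 : x - x' ∈ J n • (⊤ : Submodule A P) := (Submodule.Quotient.eq _).mp h2
    have h4 : s (x - x') = 0 := kills le_rfl s h3
    rw [map_sub, sub_eq_zero] at h4
    exact h4.symm


theorem exists_limit_pi
    (hcomplete : ∀ w : ℕ → A, (∀ n, w (n + 1) - w n ∈ J n) → ∃ a, ∀ n, a - w n ∈ J n)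
    (q : ℕ → (Fin r → A))
    (hq : ∀ n, q (n + 1) - q n ∈ J n • (⊤ : Submodule A (Fin r → A))) :
    ∃ a : Fin r → A, ∀ n, a - q n ∈ J n • (⊤ : Submodule A (Fin r → A)) := by
  have h1 : ∀ i : Fin r, ∃ a : A, ∀ n, a - q n i ∈ J n := by
    intro i
    apply hcomplete (fun n => q n i)
    intro n
    exact (mem_smul_top_pi (J n) _).mp (hq n) i
  choose a ha using h1
  refine ⟨a, fun n => ?_⟩
  rw [mem_smul_top_pi]
  intro i
  exact ha i n

theorem eq_of_forall_mkQ_eq (hJsep : ∀ a : A, (∀ n, a ∈ J n) → a = 0) {a a' : Fin r → A}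
    (h : ∀ n, (J n • (⊤ : Submodule A (Fin r → A))).mkQ a =
      (J n • (⊤ : Submodule A (Fin r → A))).mkQ a') : a = a' := by
  funext i
  rw [← sub_eq_zero]
  apply hJsep
  intro n
  have := (Submodule.Quotient.eq _).mp (h n)
  exact (mem_smul_top_pi (J n) _).mp this i

theorem finite_projective_of_quotients (hanti : Antitone J) (hjac : J 0 ≤ Ideal.jacobson ⊥)
    (hcomplete : ∀ w : ℕ → A, (∀ n, w (n + 1) - w n ∈ J n) → ∃ a, ∀ n, a - w n ∈ J n)
    (hJsep : ∀ a : A, (∀ n, a ∈ J n) → a = 0)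
    (hsep : ∀ x : P, (∀ n, x ∈ J n • (⊤ : Submodule A P)) → x = 0)
    (hfin : ∀ n, Module.Finite A (Quo J P n))
    (hproj : ∀ (n r : ℕ) (φ : (Fin r → A) →ₗ[A] P), Function.Surjective (phiQ J φ n) →
      ∃ σ : Quo J P n →ₗ[A] Quo J (Fin r → A) n, (phiQ J φ n) ∘ₗ σ = LinearMap.id) :
    Module.Finite A P ∧ Module.Projective A P := by
  -- generators
  obtain ⟨r, g, hg⟩ := Module.Finite.exists_fin (R := A) (M := Quo J P 0)
  choose x hx using fun i => mkQ_surjective (J 0 • (⊤ : Submodule A P)) (g i)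
  let φ : (Fin r → A) →ₗ[A] P := Fintype.linearCombination A x
  have hφ_apply : ∀ c : Fin r → A, φ c = ∑ i, c i • x i := fun c =>
    Fintype.linearCombination_apply A x c
  have hφ0 : ∀ y : P, ∃ q, y - φ q ∈ J 0 • (⊤ : Submodule A P) := by
    intro y
    have : (J 0 • (⊤ : Submodule A P)).mkQ y ∈ Submodule.span A (Set.range g) := by
      rw [hg]; exact mem_top
    obtain ⟨c, hc⟩ := (Submodule.mem_span_range_iff_exists_fun A).mp this
    refine ⟨c, ?_⟩
    rw [← Submodule.Quotient.eq, ← mkQ_apply, ← mkQ_apply, ← hc, hφ_apply, map_sum]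
    refine Finset.sum_congr rfl fun i _ => ?_
    rw [map_smul, hx]
  have hsurj : ∀ n, Function.Surjective (phiQ J φ n) := by
    intro n
    have := hfin n
    rw [← LinearMap.range_eq_top]
    apply eq_top_of_sup_smul_top (I := J 0) hjac
    intro y
    obtain ⟨y, rfl⟩ := mkQ_surjective _ y
    obtain ⟨q, hq⟩ := hφ0 y
    refine ⟨phiQ J φ n ((J n • (⊤ : Submodule A (Fin r → A))).mkQ q),
      LinearMap.mem_range_self _ _, ?_⟩
    have h1 : (J n • (⊤ : Submodule A P)).mkQ (y - φ q) ∈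
        map (J n • (⊤ : Submodule A P)).mkQ (J 0 • ⊤) := Submodule.mem_map_of_mem hq
    rw [Submodule.map_smul'', Submodule.map_top, range_mkQ] at h1
    rw [map_sub] at h1
    exact h1
  -- the compatible sections
  let T : ℕ → Type _ := fun n =>
    {s : P →ₗ[A] Quo J (Fin r → A) n // ∀ x, phiQ J φ n (s x) = (J n • (⊤ : Submodule A P)).mkQ x}
  have base : Nonempty (T 0) := by
    obtain ⟨σ, hσ⟩ := hproj 0 r φ (hsurj 0)
    refine ⟨⟨σ ∘ₗ (J 0 • (⊤ : Submodule A P)).mkQ, fun x => ?_⟩⟩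
    exact LinearMap.congr_fun hσ _
  obtain ⟨base⟩ := base
  have step' : ∀ n (s : T n), ∃ s' : T (n + 1),
      ∀ x, factor (Submodule.smul_mono_left (hanti (Nat.le_succ n))) (s'.1 x) = s.1 x := by
    intro n s
    obtain ⟨s', h1, h2⟩ := step J φ hanti hjac n (hfin (n + 1)) (hproj (n + 1) r φ (hsurj (n + 1)))
      s.1 s.2
    exact ⟨⟨s', h1⟩, h2⟩
  choose f hf using step'
  let seq : ∀ n, T n := fun n => Nat.rec (motive := T) base (fun n s => f n s) n
  have hseq : ∀ n x, factor (Submodule.smul_mono_left (hanti (Nat.le_succ n)))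
      ((seq (n + 1)).1 x) = (seq n).1 x := fun n x => hf n (seq n) x
  -- the limit
  have hex : ∀ x : P, ∃ a : Fin r → A,
      ∀ n, (J n • (⊤ : Submodule A (Fin r → A))).mkQ a = (seq n).1 x := by
    intro x
    choose q hq using fun n => mkQ_surjective (J n • (⊤ : Submodule A (Fin r → A))) ((seq n).1 x)
    have hcompat : ∀ n, q (n + 1) - q n ∈ J n • (⊤ : Submodule A (Fin r → A)) := by
      intro n
      rw [← Submodule.Quotient.eq, ← mkQ_apply, ← mkQ_apply, hq n, ← hseq n x, ← hq (n + 1)]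
      rfl
    obtain ⟨a, ha⟩ := exists_limit_pi J hcomplete q hcompat
    refine ⟨a, fun n => ?_⟩
    rw [← hq n, mkQ_apply, mkQ_apply, Submodule.Quotient.eq]
    exact ha n
  choose S hS using hex
  let sL : P →ₗ[A] (Fin r → A) :=
    { toFun := S
      map_add' := by
        intro x y
        apply eq_of_forall_mkQ_eq J hJsep
        intro n
        rw [hS, map_add, map_add, hS, hS]
      map_smul' := by
        intro c x
        apply eq_of_forall_mkQ_eq J hJsep
        intro n
        rw [hS, map_smul, RingHom.id_apply, map_smul, hS] }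
  have hφS : ∀ x, φ (S x) = x := by
    intro x
    rw [← sub_eq_zero]
    apply hsep
    intro n
    rw [← Submodule.Quotient.mk_eq_zero, Submodule.Quotient.mk_sub, sub_eq_zero, ← mkQ_apply,
      ← mkQ_apply, ← (seq n).2 x, ← hS x n]
    rfl
  have hφsL : φ ∘ₗ sL = LinearMap.id := LinearMap.ext hφS
  exact ⟨Module.Finite.of_surjective φ (fun x => ⟨S x, hφS x⟩), Module.Projective.of_split sL φ hφsL⟩

end Main

end Groth.Agent.H8.WProj
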