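import Mathlib
import Groth.Agent.Lib.Helper8.Disp.Units
import Groth.Agent.Lib.Helper8.WProj.Lift

/-! Finite projective `W(R)`-modules are detected on the truncations (for `p` nilpotent in `R`). -/

set_option autoImplicit false

universe u v

namespace Groth.Agent.H8.WProj

open Submodule Groth.Agent.H8.Disp

section General

variable {A : Type u} [CommRing A] (I : Ideal A) {P : Type v} [AddCommGroup P] [Module A P]

theorem exists_section_of_projective [Module.Projective (A ⧸ I) (P ⧸ I • (⊤ : Submodule A P))]
    {r : ℕ} (φ : (Fin r → A) →ₗ[A] P)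
    (hsurj : Function.Surjective (mapQ _ _ φ (Submodule.smul_top_le_comap_smul_top I φ))) :
    ∃ σ : (P ⧸ I • (⊤ : Submodule A P)) →ₗ[A] ((Fin r → A) ⧸ I • (⊤ : Submodule A (Fin r → A))),
      (mapQ _ _ φ (Submodule.smul_top_le_comap_smul_top I φ)) ∘ₗ σ = LinearMap.id := by
  let φ' : ((Fin r → A) ⧸ I • (⊤ : Submodule A (Fin r → A))) →ₗ[A ⧸ I]
      (P ⧸ I • (⊤ : Submodule A P)) :=
    (mapQ _ _ φ (Submodule.smul_top_le_comap_smul_top I φ)).extendScalarsOfSurjective
      Ideal.Quotient.mk_surjective
  obtain ⟨h, hh⟩ := Module.projective_lifting_property φ' LinearMap.id hsurj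
  refine ⟨h.restrictScalars A, ?_⟩
  ext x
  exact LinearMap.congr_fun hh _

theorem finite_quotient_of_finite [Module.Finite A P] :
    Module.Finite (A ⧸ I) (P ⧸ I • (⊤ : Submodule A P)) :=
  Module.Finite.of_restrictScalars_finite A (A ⧸ I) (P ⧸ I • (⊤ : Submodule A P))

theorem projective_quotient_of_projective [Module.Projective A P] :
    Module.Projective (A ⧸ I) (P ⧸ I • (⊤ : Submodule A P)) := by
  let e : TensorProduct A (A ⧸ I) P ≃ₗ[A ⧸ I] (P ⧸ I • (⊤ : Submodule A P)) :=
    (TensorProduct.quotTensorEquivQuotSMul P I).extendScalarsOfSurjective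
      Ideal.Quotient.mk_surjective
  exact Module.Projective.of_equiv' e

theorem finite_of_finite_quotient [Module.Finite (A ⧸ I) (P ⧸ I • (⊤ : Submodule A P))] :
    Module.Finite A (P ⧸ I • (⊤ : Submodule A P)) :=
  Module.Finite.trans (A ⧸ I) (P ⧸ I • (⊤ : Submodule A P))

/-- Separatedness of a finite projective module for a separated filtration. -/
theorem separated_of_finite_projective [Module.Finite A P] [Module.Projective A P]
    (J : ℕ → Ideal A) (hJsep : ∀ a : A, (∀ n, a ∈ J n) → a = 0) (x : P)
    (hx : ∀ n, x ∈ J n • (⊤ : Submodule A P)) : x = 0 := by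
  obtain ⟨r, f, g, -, hg, -⟩ := Module.Finite.exists_comp_eq_id_of_projective A P
  apply hg
  rw [map_zero]
  funext i
  apply hJsep
  intro n
  have h1 : g x ∈ map g (J n • (⊤ : Submodule A P)) := Submodule.mem_map_of_mem (hx n)
  rw [Submodule.map_smul''] at h1
  have h2 : g x ∈ J n • (⊤ : Submodule A (Fin r → A)) :=
    (Submodule.smul_mono le_rfl le_top) h1
  exact (mem_smul_top_pi (J n) _).mp h2 i

end General

section Witt

variable {p : ℕ} [Fact p.Prime] {R : Type u} [CommRing R]

theorem sub_mem_IT_iff {n : ℕ} {x y : WittVector p R} :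
    x - y ∈ IT p R n ↔ ∀ i < n, x.coeff i = y.coeff i := by
  constructor
  · intro h i hi
    exact coeff_eq_of_sub_mem_IT h hi
  · intro h
    rw [IT, RingHom.sub_mem_ker_iff]
    exact truncate_eq_of_coeff_eq h

theorem IT_antitone : Antitone (fun n => IT p R n) := by
  intro m n hmn x hx
  rw [mem_IT_iff] at hx ⊢
  exact fun i hi => hx i (by omega)

theorem IT_complete (w : ℕ → WittVector p R) (hw : ∀ n, w (n + 1) - w n ∈ IT p R (n + 1)) :
    ∃ a, ∀ n, a - w n ∈ IT p R (n + 1) := by
  have key : ∀ c d : ℕ, (w (c + d)).coeff c = (w c).coeff c := by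
    intro c d
    induction d with
    | zero => rfl
    | succ d ih =>
      rw [← ih]
      exact coeff_eq_of_sub_mem_IT (hw (c + d)) (by omega)
  refine ⟨WittVector.mk p fun c => (w c).coeff c, fun n => ?_⟩
  rw [sub_mem_IT_iff]
  intro i hi
  rw [WittVector.coeff_mk]
  obtain ⟨d, rfl⟩ := Nat.exists_eq_add_of_le (Nat.lt_succ_iff.mp hi)
  exact (key i d).symm

theorem IT_sep (a : WittVector p R) (h : ∀ n, a ∈ IT p R (n + 1)) : a = 0 := by
  ext c
  rw [WittVector.zero_coeff]
  exact (mem_IT_iff _ _).mp (h c) c (Nat.lt_succ_self c)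

theorem finite_projective_iff (hp : IsNilpotent (p : R))
    (P : Type v) [AddCommGroup P] [Module (WittVector p R) P] :
    (Module.Finite (WittVector p R) P ∧ Module.Projective (WittVector p R) P) ↔
      ((⨅ n : ℕ, (IT p R n • (⊤ : Submodule (WittVector p R) P))) = ⊥ ∧
        ∀ n : ℕ, Module.Finite (WittVector p R ⧸ IT p R n)
              (P ⧸ (IT p R n • (⊤ : Submodule (WittVector p R) P))) ∧
            Module.Projective (WittVector p R ⧸ IT p R n)
              (P ⧸ (IT p R n • (⊤ : Submodule (WittVector p R) P)))) := by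
  constructor
  · rintro ⟨hfin, hproj⟩
    refine ⟨?_, fun n => ⟨finite_quotient_of_finite _, projective_quotient_of_projective _⟩⟩
    rw [eq_bot_iff]
    intro x hx
    rw [Submodule.mem_iInf] at hx
    rw [Submodule.mem_bot]
    exact separated_of_finite_projective (fun n => IT p R (n + 1)) IT_sep x (fun n => hx (n + 1))
  · rintro ⟨hsep, h⟩
    apply finite_projective_of_quotients (fun n => IT p R (n + 1))
    · exact fun m n hmn => IT_antitone (Nat.succ_le_succ hmn)
    · change IT p R 1 ≤ _
      rw [IT_one_eq]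
      exact IV_le_jacobson hp
    · exact IT_complete
    · exact IT_sep
    · intro x hx
      have : x ∈ ⨅ n : ℕ, (IT p R n • (⊤ : Submodule (WittVector p R) P)) := by
        rw [Submodule.mem_iInf]
        intro n
        exact (Submodule.smul_mono_left (IT_antitone (Nat.le_succ n))) (hx n)
      rw [hsep, Submodule.mem_bot] at this
      exact this
    · intro n
      have := (h (n + 1)).1
      exact finite_of_finite_quotient (IT p R (n + 1))
    · intro n r φ hsurj
      have := (h (n + 1)).2
      exact exists_section_of_projective (IT p R (n + 1)) φ hsurj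

end Witt

end Groth.Agent.H8.WProj
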