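import Mathlib
import Groth.Agent.Lib.Helper8.WProj.Witt

/-! Lifting a decomposition modulo `I` of a finite projective module over an `I`-adically complete
ring. -/

set_option autoImplicit false

universe u v

namespace Groth.Agent.H8.WProj

open Submodule

section Complete

variable {A : Type u} [CommRing A] (I : Ideal A) {P : Type v} [AddCommGroup P] [Module A P]

theorem isPrecomplete_of_finite_projective [IsPrecomplete I A] [Module.Finite A P]
    [Module.Projective A P] : IsPrecomplete I P := by
  obtain ⟨r, f, g, -, -, hfg⟩ := Module.Finite.exists_comp_eq_id_of_projective A P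
  refine ⟨fun h hh => ?_⟩
  have hc : IsPrecomplete I A := inferInstance
  have h1 : ∀ i : Fin r, ∃ a : A, ∀ n, g (h n) i ≡ a [SMOD (I ^ n • ⊤ : Submodule A A)] := by
    intro i
    apply hc.prec
    intro m n hmn
    have h2 := hh hmn
    rw [SModEq.sub_mem] at h2 ⊢
    have h3 : g (h m - h n) ∈ map g (I ^ m • (⊤ : Submodule A P)) := Submodule.mem_map_of_mem h2
    rw [Submodule.map_smul''] at h3
    have h4 : g (h m - h n) ∈ I ^ m • (⊤ : Submodule A (Fin r → A)) :=
      (Submodule.smul_mono le_rfl le_top) h3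
    have h5 := (mem_smul_top_pi (I ^ m) _).mp h4 i
    rw [map_sub] at h5
    rw [smul_eq_mul, Ideal.mul_top]
    exact h5
  choose a ha using h1
  refine ⟨f a, fun n => ?_⟩
  rw [SModEq.sub_mem]
  have h2 : g (h n) - a ∈ I ^ n • (⊤ : Submodule A (Fin r → A)) := by
    rw [mem_smul_top_pi]
    intro i
    have := ha i n
    rw [SModEq.sub_mem, smul_eq_mul, Ideal.mul_top] at this
    exact this
  have h3 : h n - f a = f (g (h n) - a) := by
    rw [map_sub]
    congr 1
    exact (LinearMap.congr_fun hfg (h n)).symm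
  rw [h3]
  have h4 : f (g (h n) - a) ∈ map f (I ^ n • (⊤ : Submodule A (Fin r → A))) :=
    Submodule.mem_map_of_mem h2
  rw [Submodule.map_smul''] at h4
  exact (Submodule.smul_mono le_rfl le_top) h4

theorem isHausdorff_of_finite_projective [IsHausdorff I A] [Module.Finite A P]
    [Module.Projective A P] : IsHausdorff I P := by
  refine ⟨fun x hx => ?_⟩
  apply separated_of_finite_projective (fun n => I ^ n) ?_ x
  · intro n
    have := hx n
    rw [SModEq.zero] at this
    exact this
  · intro a ha
    apply IsHausdorff.haus (I := I) inferInstance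
    intro n
    rw [SModEq.zero, smul_eq_mul, Ideal.mul_top]
    exact ha n

end Complete

section Idem

variable {A : Type u} [CommRing A] (I : Ideal A) {P : Type v} [AddCommGroup P] [Module A P]

theorem map_mem_smul_top (φ : P →ₗ[A] P) (k : ℕ) {x : P} (hx : x ∈ I ^ k • (⊤ : Submodule A P)) :
    φ x ∈ I ^ k • (⊤ : Submodule A P) :=
  Submodule.smul_top_le_comap_smul_top (I ^ k) φ hx

/-- If `δ P ⊆ I^k P` then `δ (δ x) ∈ I^(2k) P`. -/
theorem sq_mem_smul_top (δ : P →ₗ[A] P) (k : ℕ) (hδ : ∀ x, δ x ∈ I ^ k • (⊤ : Submodule A P))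
    (x : P) : δ (δ x) ∈ I ^ (k + k) • (⊤ : Submodule A P) := by
  have h1 : δ (δ x) ∈ map δ (I ^ k • (⊤ : Submodule A P)) := Submodule.mem_map_of_mem (hδ x)
  rw [Submodule.map_smul''] at h1
  have h2 : I ^ k • map δ (⊤ : Submodule A P) ≤ I ^ k • (I ^ k • (⊤ : Submodule A P)) := by
    apply Submodule.smul_mono le_rfl
    rintro _ ⟨y, -, rfl⟩
    exact hδ y
  have h3 := h2 h1
  rw [← Submodule.mul_smul, ← pow_add] at h3
  exact h3

/-- Newton iteration for idempotents. -/
noncomputable def newton (e₀ : Module.End A P) : ℕ → Module.End A P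
  | 0 => e₀
  | n + 1 => 3 * (newton e₀ n * newton e₀ n) - 2 * (newton e₀ n * newton e₀ n * newton e₀ n)

theorem newton_delta (e : Module.End A P) :
    (3 * (e * e) - 2 * (e * e * e)) * (3 * (e * e) - 2 * (e * e * e)) - (3 * (e * e) - 2 * (e * e * e)) =
      (e * e - e) * (e * e - e) * (4 * (e * e - e) - 3) := by
  noncomm_ring

theorem newton_diff (e : Module.End A P) :
    (3 * (e * e) - 2 * (e * e * e)) - e = (e * e - e) * (1 - 2 * e) := by
  noncomm_ring

theorem newton_delta_mem (e₀ : Module.End A P)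
    (h₀ : ∀ x, (e₀ * e₀ - e₀) x ∈ I ^ 1 • (⊤ : Submodule A P)) (n : ℕ) :
    ∀ x, (newton e₀ n * newton e₀ n - newton e₀ n) x ∈ I ^ (n + 1) • (⊤ : Submodule A P) := by
  induction n with
  | zero => exact h₀
  | succ n ih =>
    intro x
    rw [newton, newton_delta, Module.End.mul_apply, Module.End.mul_apply]
    have h1 := sq_mem_smul_top I _ (n + 1) ih ((4 * (newton e₀ n * newton e₀ n - newton e₀ n) - 3) x)
    exact Submodule.smul_mono_left (Ideal.pow_le_pow_right (by omega)) h1

theorem newton_diff_mem (e₀ : Module.End A P)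
    (h₀ : ∀ x, (e₀ * e₀ - e₀) x ∈ I ^ 1 • (⊤ : Submodule A P)) (n : ℕ) (x : P) :
    newton e₀ (n + 1) x - newton e₀ n x ∈ I ^ (n + 1) • (⊤ : Submodule A P) := by
  have : newton e₀ (n + 1) x - newton e₀ n x = (newton e₀ (n + 1) - newton e₀ n) x := rfl
  rw [this, newton, newton_diff, Module.End.mul_apply]
  exact newton_delta_mem I e₀ h₀ n _

theorem newton_sub_mem (e₀ : Module.End A P)
    (h₀ : ∀ x, (e₀ * e₀ - e₀) x ∈ I ^ 1 • (⊤ : Submodule A P)) {m n : ℕ} (hmn : m ≤ n) (x : P) :
    newton e₀ n x - newton e₀ m x ∈ I ^ (m + 1) • (⊤ : Submodule A P) := by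
  obtain ⟨d, rfl⟩ := Nat.exists_eq_add_of_le hmn
  induction d with
  | zero => simp
  | succ d ih =>
    have h1 := newton_diff_mem I e₀ h₀ (m + d) x
    have h2 : newton e₀ (m + (d + 1)) x - newton e₀ m x =
        (newton e₀ (m + d + 1) x - newton e₀ (m + d) x) + (newton e₀ (m + d) x - newton e₀ m x) := by
      rw [← add_assoc]; abel
    rw [h2]
    exact Submodule.add_mem _ (Submodule.smul_mono_left (Ideal.pow_le_pow_right (by omega)) h1)
      (ih (by omega))

/-- The limit idempotent. -/
theorem exists_idempotent_lift [IsAdicComplete I A] [Module.Finite A P] [Module.Projective A P]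
    (e₀ : Module.End A P) (h₀ : ∀ x, (e₀ * e₀ - e₀) x ∈ I • (⊤ : Submodule A P)) :
    ∃ e : Module.End A P, (∀ x, e (e x) = e x) ∧ ∀ x, e x - e₀ x ∈ I • (⊤ : Submodule A P) := by
  have h₀' : ∀ x, (e₀ * e₀ - e₀) x ∈ I ^ 1 • (⊤ : Submodule A P) := by simpa using h₀
  have hpre : IsPrecomplete I P := isPrecomplete_of_finite_projective I
  have hhaus : IsHausdorff I P := isHausdorff_of_finite_projective I
  have hsep : ∀ z : P, (∀ n, z ∈ I ^ n • (⊤ : Submodule A P)) → z = 0 := by
    intro z hz
    apply hhaus.haus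
    intro n
    rw [SModEq.zero]
    exact hz n
  have hlim : ∀ x : P, ∃ L : P, ∀ n, L - newton e₀ n x ∈ I ^ n • (⊤ : Submodule A P) := by
    intro x
    obtain ⟨L, hL⟩ := hpre.prec (f := fun n => newton e₀ n x) (by
      intro m n hmn
      rw [SModEq.sub_mem, ← neg_sub]
      refine Submodule.neg_mem _ ?_
      exact Submodule.smul_mono_left (Ideal.pow_le_pow_right (Nat.le_succ m))
        (newton_sub_mem I e₀ h₀' hmn x))
    refine ⟨L, fun n => ?_⟩
    have := hL n
    rw [SModEq.sub_mem, ← neg_sub] at this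
    exact (Submodule.neg_mem_iff _).mp this
  choose E hE using hlim
  have hEuniq : ∀ (x z : P), (∀ n, z - newton e₀ n x ∈ I ^ n • (⊤ : Submodule A P)) → z = E x := by
    intro x z hz
    rw [← sub_eq_zero]
    apply hsep
    intro n
    have : z - E x = (z - newton e₀ n x) - (E x - newton e₀ n x) := by abel
    rw [this]
    exact Submodule.sub_mem _ (hz n) (hE x n)
  let e : Module.End A P :=
    { toFun := E
      map_add' := by
        intro x y
        symm
        apply hEuniq
        intro n
        have : E x + E y - newton e₀ n (x + y) =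
            (E x - newton e₀ n x) + (E y - newton e₀ n y) := by rw [map_add]; abel
        rw [this]
        exact Submodule.add_mem _ (hE x n) (hE y n)
      map_smul' := by
        intro c x
        symm
        apply hEuniq
        intro n
        have : (RingHom.id A) c • E x - newton e₀ n (c • x) = c • (E x - newton e₀ n x) := by
          rw [map_smul, smul_sub]; rfl
        rw [this]
        exact Submodule.smul_mem _ _ (hE x n) }
  have he : ∀ x, e x = E x := fun x => rfl
  refine ⟨e, ?_, ?_⟩
  · intro x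
    rw [← sub_eq_zero]
    apply hsep
    intro n
    -- e (e x) - e x
    have h1 : e (e x) - newton e₀ n (e x) ∈ I ^ n • (⊤ : Submodule A P) := hE (e x) n
    have h2 : newton e₀ n (e x) - newton e₀ n (newton e₀ n x) ∈ I ^ n • (⊤ : Submodule A P) := by
      rw [← map_sub]
      exact map_mem_smul_top I _ n (hE x n)
    have h3 : newton e₀ n (newton e₀ n x) - newton e₀ n x ∈ I ^ n • (⊤ : Submodule A P) := by
      have := newton_delta_mem I e₀ h₀' n x
      exact Submodule.smul_mono_left (Ideal.pow_le_pow_right (Nat.le_succ n)) this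
    have h4 : newton e₀ n x - e x ∈ I ^ n • (⊤ : Submodule A P) := by
      rw [← neg_sub]; exact Submodule.neg_mem _ (hE x n)
    have : e (e x) - e x = (e (e x) - newton e₀ n (e x)) +
        (newton e₀ n (e x) - newton e₀ n (newton e₀ n x)) +
        (newton e₀ n (newton e₀ n x) - newton e₀ n x) + (newton e₀ n x - e x) := by abel
    rw [this]
    exact Submodule.add_mem _ (Submodule.add_mem _ (Submodule.add_mem _ h1 h2) h3) h4
  · intro x
    have h1 := hE x 1
    have h2 := newton_sub_mem I e₀ h₀' (Nat.zero_le 1) x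
    have : e x - e₀ x = (E x - newton e₀ 1 x) + (newton e₀ 1 x - newton e₀ 0 x) := by
      rw [he]; change _ = _ + (_ - e₀ x); abel
    rw [this]
    have := Submodule.add_mem _ h1 h2
    simpa using this


theorem exists_normal_decomposition [IsAdicComplete I A] [Module.Finite A P] [Module.Projective A P]
    (Q C : Submodule A P) (hsup : Q ⊔ C = ⊤) (hinf : Q ⊓ C = I • (⊤ : Submodule A P)) :
    ∃ L T : Submodule A P, IsCompl L T ∧ Q = L ⊔ I • T := by
  have hIQ : I • (⊤ : Submodule A P) ≤ Q := hinf ▸ inf_le_left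
  -- the approximate idempotent
  let π : (Q × C) →ₗ[A] P := Q.subtype.coprod C.subtype
  have hπ : Function.Surjective π := by
    intro x
    have hx : x ∈ Q ⊔ C := hsup ▸ mem_top
    obtain ⟨q, hq, c, hc, rfl⟩ := Submodule.mem_sup.mp hx
    exact ⟨(⟨q, hq⟩, ⟨c, hc⟩), by simp [π]⟩
  obtain ⟨σ, hσ⟩ := Module.projective_lifting_property π LinearMap.id hπ
  let e₀ : Module.End A P := Q.subtype ∘ₗ (LinearMap.fst A Q C) ∘ₗ σ
  have ha : ∀ x, e₀ x ∈ Q := fun x => ((σ x).1).2
  have hb : ∀ x, x - e₀ x ∈ C := by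
    intro x
    have h1 : π (σ x) = x := LinearMap.congr_fun hσ x
    have h2 : π (σ x) = ((σ x).1 : P) + ((σ x).2 : P) := by simp [π]
    have h4 : e₀ x = ((σ x).1 : P) := rfl
    have h3 : x - e₀ x = ((σ x).2 : P) := by
      rw [h4, sub_eq_iff_eq_add, add_comm]
      exact h1.symm.trans h2
    rw [h3]
    exact ((σ x).2).2
  have hc : ∀ q ∈ Q, q - e₀ q ∈ I • (⊤ : Submodule A P) := by
    intro q hq
    rw [← hinf]
    exact ⟨Q.sub_mem hq (ha q), hb q⟩
  have h₀ : ∀ x, (e₀ * e₀ - e₀) x ∈ I • (⊤ : Submodule A P) := by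
    intro x
    have := hc (e₀ x) (ha x)
    have h1 : (e₀ * e₀ - e₀) x = -(e₀ x - e₀ (e₀ x)) := by
      rw [LinearMap.sub_apply, Module.End.mul_apply]; abel
    rw [h1]
    exact Submodule.neg_mem _ this
  obtain ⟨e, hee, he₀⟩ := exists_idempotent_lift I e₀ h₀
  have heQ : ∀ x, e x ∈ Q := by
    intro x
    have : e x = (e x - e₀ x) + e₀ x := by abel
    rw [this]
    exact Q.add_mem (hIQ (he₀ x)) (ha x)
  let e' : Module.End A P := LinearMap.id - e
  have he' : ∀ x, e' x = x - e x := fun x => rfl
  refine ⟨LinearMap.range e, LinearMap.range e', ⟨?_, ?_⟩, ?_⟩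
  · rw [Submodule.disjoint_def]
    rintro z ⟨a, rfl⟩ ⟨b, hb'⟩
    have h1 : e (e a) = e (e' b) := by rw [hb']
    rw [hee, he', map_sub, hee, sub_self] at h1
    exact h1
  · rw [codisjoint_iff, eq_top_iff]
    intro z _
    have : z = e z + e' z := by
      rw [he']; abel
    rw [this]
    exact Submodule.add_mem_sup (LinearMap.mem_range_self _ _) (LinearMap.mem_range_self _ _)
  · apply le_antisymm
    · intro q hq
      have h1 : q = e q + e' q := by
        rw [he']; abel
      rw [h1]
      refine Submodule.add_mem_sup (LinearMap.mem_range_self _ _) ?_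
      -- `(1 - e) q ∈ I P`
      have h2 : e' q ∈ I • (⊤ : Submodule A P) := by
        have : e' q = (q - e₀ q) - (e q - e₀ q) := by
          rw [he']; abel
        rw [this]
        exact Submodule.sub_mem _ (hc q hq) (he₀ q)
      have h3 : e' (e' q) = e' q := by
        rw [he' (e' q), he' q, map_sub, hee]
        abel
      rw [← h3]
      have h4 : e' (e' q) ∈
          map e' (I • (⊤ : Submodule A P)) := Submodule.mem_map_of_mem h2
      rw [Submodule.map_smul'', Submodule.map_top] at h4
      exact h4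
    · rw [sup_le_iff]
      constructor
      · rintro _ ⟨a, rfl⟩
        exact heQ a
      · exact (Submodule.smul_mono le_rfl le_top).trans hIQ

end Idem

end Groth.Agent.H8.WProj
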