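import Mathlib
import Groth.Agent.Lib.Helper8.WProj.Idem
import Groth.Agent.Lib.Helper8.Disp.BaseChange

set_option autoImplicit false

universe u v

namespace Groth.Agent.H8.WProj

open Groth.Agent.H8.Disp Dieu W4c1extbt610

section WittNil

variable {p : ℕ} [Fact p.Prime] {S : Type u} [CommRing S] {R : Type v} [CommRing R]

theorem iterate_frobenius_iterate_verschiebung (n : ℕ) (z : WittVector p S) :
    (⇑(WittVector.frobenius : WittVector p S →+* WittVector p S))^[n]
      ((⇑(WittVector.verschiebung : WittVector p S →+ WittVector p S))^[n] z) =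
      z * ((p : WittVector p S)) ^ n := by
  induction n generalizing z with
  | zero => simp
  | succ n ih =>
    rw [Function.iterate_succ_apply, Function.iterate_succ_apply',
      WittVector.frobenius_verschiebung, iterate_frobenius_mul_natCast, ih, pow_succ, mul_assoc]

/-- powers of `V^n z`. -/
theorem iterate_verschiebung_pow (n : ℕ) (z : WittVector p S) (k : ℕ) :
    ∃ u : WittVector p S,
      ((⇑(WittVector.verschiebung : WittVector p S →+ WittVector p S))^[n] z) ^ (k + 1) =
        (⇑(WittVector.verschiebung : WittVector p S →+ WittVector p S))^[n] (u * z ^ (k + 1)) := by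
  induction k with
  | zero => exact ⟨1, by simp⟩
  | succ k ih =>
    obtain ⟨u, hu⟩ := ih
    refine ⟨u * (p : WittVector p S) ^ n, ?_⟩
    rw [pow_succ, hu, WittVector.iterate_verschiebung_mul_left,
      iterate_frobenius_iterate_verschiebung]
    congr 1
    ring

theorem exists_pow_mem_IT_succ {n : ℕ} {x : WittVector p S} (hx : x ∈ IT p S n)
    (hn : IsNilpotent (x.coeff n)) : ∃ k, x ^ (k + 1) ∈ IT p S (n + 1) := by
  rw [mem_IT_iff] at hx
  have hx' := WittVector.eq_iterate_verschiebung hx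
  obtain ⟨k, hk⟩ := hn
  obtain ⟨u, hu⟩ := iterate_verschiebung_pow n (x.shift n) k
  refine ⟨k, ?_⟩
  rw [hx', hu]
  have h0 : WittVector.constantCoeff (u * x.shift n ^ (k + 1)) = 0 := by
    rw [map_mul, map_pow]
    have : WittVector.constantCoeff (x.shift n) = x.coeff n := by
      show (x.shift n).coeff 0 = _
      rw [WittVector.shift_coeff, add_zero]
    rw [this, pow_succ, hk, zero_mul, mul_zero]
  obtain ⟨w, hw⟩ := exists_verschiebung_eq h0
  rw [← hw, ← Function.iterate_succ_apply]
  rw [mem_IT_iff]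
  intro i hi
  exact WittVector.iterate_verschiebung_coeff_eq_zero _ hi

theorem exists_pow_mem_IT (φ : S →+* R) (hnil : ∀ a : S, φ a = 0 → IsNilpotent a)
    {x : WittVector p S} (hx : x ∈ RingHom.ker (WittVector.map (p := p) φ)) (n : ℕ) :
    ∃ k, x ^ (k + 1) ∈ IT p S n := by
  induction n with
  | zero =>
    refine ⟨0, ?_⟩
    rw [mem_IT_iff]
    intro i hi
    omega
  | succ n ih =>
    obtain ⟨k, hk⟩ := ih
    have h1 : x ^ (k + 1) ∈ RingHom.ker (WittVector.map (p := p) φ) := by
      rw [pow_succ]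
      exact Ideal.mul_mem_left _ _ hx
    have h2 : IsNilpotent ((x ^ (k + 1)).coeff n) := by
      apply hnil
      rw [← WittVector.map_coeff, (RingHom.mem_ker).mp h1, WittVector.zero_coeff]
    obtain ⟨m, hm⟩ := exists_pow_mem_IT_succ hk h2
    refine ⟨(k + 1) * (m + 1) - 1, ?_⟩
    have : (k + 1) * (m + 1) - 1 + 1 = (k + 1) * (m + 1) := by
      have : 0 < (k + 1) * (m + 1) := by positivity
      omega
    rw [this, pow_mul]
    exact hm

theorem exists_pow_le_IT (φ : S →+* R) (hnil : ∀ a : S, φ a = 0 → IsNilpotent a)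
    {𝔧 : Ideal (WittVector p S)} (hfg : 𝔧.FG)
    (hle : 𝔧 ≤ RingHom.ker (WittVector.map (p := p) φ)) (n : ℕ) :
    ∃ m, 𝔧 ^ m ≤ IT p S n := by
  have h1 : (𝔧.map (Ideal.Quotient.mk (IT p S n))).FG := hfg.map _
  have h2 : 𝔧.map (Ideal.Quotient.mk (IT p S n)) ≤ nilradical _ := by
    rw [Ideal.map_le_iff_le_comap]
    intro x hx
    obtain ⟨k, hk⟩ := exists_pow_mem_IT φ hnil (hle hx) n
    rw [Ideal.mem_comap, mem_nilradical]
    refine ⟨k + 1, ?_⟩
    rw [← map_pow]
    exact Ideal.Quotient.eq_zero_iff_mem.mpr hk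
  obtain ⟨m, hm⟩ := (Ideal.FG.isNilpotent_iff_le_nilradical h1).mpr h2
  refine ⟨m, ?_⟩
  rw [← Ideal.map_pow, Ideal.zero_eq_bot, Ideal.map_eq_bot_iff_le_ker, Ideal.mk_ker] at hm
  exact hm

theorem mem_ker_map_of_forall (φ : S →+* R) {d : WittVector p S}
    (h : ∀ n, ∃ t ∈ IT p S (n + 1), d - t ∈ RingHom.ker (WittVector.map (p := p) φ)) :
    d ∈ RingHom.ker (WittVector.map (p := p) φ) := by
  rw [RingHom.mem_ker]
  ext k
  obtain ⟨t, ht, hd⟩ := h k
  rw [RingHom.mem_ker, map_sub, sub_eq_zero] at hd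
  rw [hd, WittVector.map_coeff, WittVector.zero_coeff, (mem_IT_iff _ _).mp ht k (Nat.lt_succ_self k),
    map_zero]

theorem isUnit_of_isUnit_coeff_zero (hp : IsNilpotent (p : S)) {w : WittVector p S}
    (h : IsUnit (w.coeff 0)) : IsUnit w := by
  obtain ⟨u, hu⟩ := h
  have h1 : WittVector.teichmuller p (u : S) * WittVector.teichmuller p ((u⁻¹ : Sˣ) : S) = 1 := by
    rw [← map_mul, Units.mul_inv, map_one]
  have h2 : WittVector.teichmuller p (u : S) - w ∈ IV p S := by
    have h0 : WittVector.constantCoeff (WittVector.teichmuller p (u : S) - w) = 0 := by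
      rw [map_sub]
      show (WittVector.teichmuller p (u : S)).coeff 0 - w.coeff 0 = 0
      rw [WittVector.teichmuller_coeff_zero, hu, sub_self]
    obtain ⟨w', hw'⟩ := exists_verschiebung_eq h0
    rw [← hw']
    exact verschiebung_mem_IV p S w'
  have h3 : IsUnit (1 - WittVector.teichmuller p ((u⁻¹ : Sˣ) : S) *
      (WittVector.teichmuller p (u : S) - w)) :=
    isUnit_one_sub_of_mem_IV hp (Ideal.mul_mem_left _ _ h2)
  have h4 : w = WittVector.teichmuller p (u : S) *
      (1 - WittVector.teichmuller p ((u⁻¹ : Sˣ) : S) * (WittVector.teichmuller p (u : S) - w)) := by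
    rw [mul_sub, ← mul_assoc, h1]
    ring
  rw [h4]
  exact (IsUnit.of_mul_eq_one _ h1).mul h3

theorem ker_map_le_jacobson (hp : IsNilpotent (p : S)) (φ : S →+* R)
    (hnil : ∀ a : S, φ a = 0 → IsNilpotent a) :
    RingHom.ker (WittVector.map (p := p) φ) ≤ Ideal.jacobson (⊥ : Ideal (WittVector p S)) := by
  intro x hx
  rw [Ideal.mem_jacobson_bot]
  intro y
  apply isUnit_of_isUnit_coeff_zero hp
  have h1 : (x * y + 1).coeff 0 = x.coeff 0 * y.coeff 0 + 1 := by
    show WittVector.constantCoeff (x * y + 1) = _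
    rw [map_add, map_mul, map_one]
    rfl
  rw [h1]
  have h2 : IsNilpotent (x.coeff 0) := by
    apply hnil
    rw [← WittVector.map_coeff, (RingHom.mem_ker).mp hx, WittVector.zero_coeff]
  exact (Commute.isNilpotent_mul_right (Commute.all _ _) h2).isUnit_add_one

end WittNil

end Groth.Agent.H8.WProj
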