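import Mathlib
import Groth.Agent.Lib.Helper8.WProj.NilA

set_option autoImplicit false

universe u v

namespace Groth.Agent.H8.WProj

open Groth.Agent.H8.Disp

section IdemMatrix

variable {A : Type u} [CommRing A]

theorem toLin'_mem_smul_top {r : ℕ} (K : Ideal A) (D : Matrix (Fin r) (Fin r) A)
    (hD : ∀ i j, D i j ∈ K) (x : Fin r → A) :
    Matrix.toLin' D x ∈ K • (⊤ : Submodule A (Fin r → A)) := by
  rw [mem_smul_top_pi]
  intro i
  rw [Matrix.toLin'_apply, Matrix.mulVec, dotProduct]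
  exact Ideal.sum_mem _ fun j _ => Ideal.mul_mem_right _ _ (hD i j)

theorem toMatrix'_mem {r : ℕ} (K : Ideal A) (f : (Fin r → A) →ₗ[A] (Fin r → A))
    (hf : ∀ x, f x ∈ K • (⊤ : Submodule A (Fin r → A))) (i j : Fin r) :
    LinearMap.toMatrix' f i j ∈ K := by
  rw [LinearMap.toMatrix'_apply]
  exact (mem_smul_top_pi K _).mp (hf _) i

theorem exists_idempotent_matrix (Jn : ℕ → Ideal A) (hanti : Antitone Jn)
    (hcomplete : ∀ w : ℕ → A, (∀ n, w (n + 1) - w n ∈ Jn n) → ∃ a, ∀ n, a - w n ∈ Jn n)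
    (hsep : ∀ a : A, (∀ n, a ∈ Jn n) → a = 0)
    (𝔧 : Ideal A) (hpow : ∀ n, ∃ m, 𝔧 ^ m ≤ Jn n) {r : ℕ} (E₀ : Matrix (Fin r) (Fin r) A)
    (h₀ : ∀ i j, (E₀ * E₀ - E₀) i j ∈ 𝔧) :
    ∃ E : Matrix (Fin r) (Fin r) A, E * E = E ∧
      ∀ i j n, ∃ t ∈ Jn n, E i j - E₀ i j - t ∈ 𝔧 := by
  classical
  choose μ hμ using hpow
  set e₀ : Module.End A (Fin r → A) := Matrix.toLin' E₀ with he₀
  have h₀' : ∀ x, (e₀ * e₀ - e₀) x ∈ 𝔧 ^ 1 • (⊤ : Submodule A (Fin r → A)) := by
    intro x
    have : e₀ * e₀ - e₀ = Matrix.toLin' (E₀ * E₀ - E₀) := by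
      rw [map_sub, Matrix.toLin'_mul]; rfl
    rw [this, pow_one]
    exact toLin'_mem_smul_top 𝔧 _ h₀ x
  set M : ℕ → Matrix (Fin r) (Fin r) A := fun k => LinearMap.toMatrix' (newton e₀ k) with hM
  have hM0 : M 0 = E₀ := by
    show LinearMap.toMatrix' (newton e₀ 0) = E₀
    rw [newton, he₀, LinearMap.toMatrix'_toLin']
  -- idempotent defect
  have hdelta : ∀ k i j, (M k * M k - M k) i j ∈ 𝔧 ^ (k + 1) := by
    intro k i j
    have : M k * M k - M k = LinearMap.toMatrix' (newton e₀ k * newton e₀ k - newton e₀ k) := by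
      rw [map_sub, LinearMap.toMatrix'_mul]
    rw [this]
    exact toMatrix'_mem _ _ (newton_delta_mem 𝔧 e₀ h₀' k) i j
  have hsub : ∀ {m n : ℕ}, m ≤ n → ∀ i j, (M n - M m) i j ∈ 𝔧 ^ (m + 1) := by
    intro m n hmn i j
    have : M n - M m = LinearMap.toMatrix' (newton e₀ n - newton e₀ m) := by
      rw [map_sub]
    rw [this]
    exact toMatrix'_mem _ _ (fun x => newton_sub_mem 𝔧 e₀ h₀' hmn x) i j
  have hpowle : ∀ n k, μ n ≤ k → 𝔧 ^ k ≤ Jn n := fun n k hk =>
    (Ideal.pow_le_pow_right hk).trans (hμ n)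
  -- the Cauchy sequence
  have hcauchy : ∀ i j n, M (μ (n + 1)) i j - M (μ n) i j ∈ Jn n := by
    intro i j n
    rcases le_total (μ n) (μ (n + 1)) with h | h
    · exact hpowle n _ (by omega) (hsub h i j)
    · have h1 := hsub h i j
      have h2 : (M (μ n) - M (μ (n + 1))) i j ∈ Jn n :=
        hanti (Nat.le_succ n) (hpowle (n + 1) _ (by omega) h1)
      have : M (μ (n + 1)) i j - M (μ n) i j = -((M (μ n) - M (μ (n + 1))) i j) := by
        simp [Matrix.sub_apply]
      rw [this]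
      exact neg_mem h2
  have hlim : ∀ i j, ∃ a : A, ∀ n, a - M (μ n) i j ∈ Jn n := fun i j =>
    hcomplete (fun n => M (μ n) i j) (hcauchy i j)
  choose a ha using hlim
  set E : Matrix (Fin r) (Fin r) A := Matrix.of a with hE
  refine ⟨E, ?_, ?_⟩
  · -- idempotent
    have key : ∀ n i j, (E * E - E) i j ∈ Jn n := by
      intro n i j
      set q := (Ideal.Quotient.mk (Jn n)).mapMatrix (m := Fin r) with hq
      have h1 : q E = q (M (μ n)) := by
        ext i j
        rw [hq, RingHom.mapMatrix_apply, RingHom.mapMatrix_apply, Matrix.map_apply, Matrix.map_apply]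
        exact Ideal.Quotient.eq.mpr (ha i j n)
      have h2 : q (M (μ n) * M (μ n) - M (μ n)) = 0 := by
        ext i j
        rw [hq, RingHom.mapMatrix_apply, Matrix.map_apply, Matrix.zero_apply]
        exact Ideal.Quotient.eq_zero_iff_mem.mpr (hpowle n _ (by omega) (hdelta (μ n) i j))
      have h3 : q (E * E - E) = 0 := by
        rw [map_sub, map_mul, h1, ← map_mul, ← map_sub, h2]
      have h4 := congrFun (congrFun h3 i) j
      rw [hq, RingHom.mapMatrix_apply, Matrix.map_apply, Matrix.zero_apply] at h4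
      exact Ideal.Quotient.eq_zero_iff_mem.mp h4
    have : E * E - E = 0 := by
      ext i j
      exact hsep _ (fun n => key n i j)
    exact sub_eq_zero.mp this
  · intro i j n
    refine ⟨E i j - M (μ n) i j, ha i j n, ?_⟩
    have h1 := hsub (Nat.zero_le (μ n)) i j
    rw [hM0, zero_add, pow_one, Matrix.sub_apply] at h1
    have : E i j - E₀ i j - (E i j - M (μ n) i j) = M (μ n) i j - E₀ i j := by ring
    rw [this]
    exact h1

end IdemMatrix

end Groth.Agent.H8.WProj
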