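import Mathlib
import Groth.Agent.Lib.Helper8.WProj.NilC

set_option autoImplicit false

universe u v

namespace Groth.Agent.H8.WProj

open Groth.Agent.H8.Disp Matrix

section AbstractLift

variable {A B : Type u} [CommRing A] [CommRing B] (Φ : A →+* B)

theorem exists_lift_of_idempotent_lift (hΦ : Function.Surjective Φ)
    (hlift : ∀ (r : ℕ) (Eb : Matrix (Fin r) (Fin r) B), Eb * Eb = Eb →
      ∃ E : Matrix (Fin r) (Fin r) A, E * E = E ∧ Φ.mapMatrix E = Eb)
    (P : Type u) [AddCommGroup P] [Module B P] [Module.Finite B P] [Module.Projective B P] :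
    ∃ (P' : Type u) (_ : AddCommGroup P') (_ : Module A P'),
      Module.Finite A P' ∧ Module.Projective A P' ∧
        ∃ π : P' →ₛₗ[Φ] P, Function.Surjective π ∧
          LinearMap.ker π = RingHom.ker Φ • (⊤ : Submodule A P') := by
  classical
  obtain ⟨r, f, g, hf, hg, hfg⟩ := Module.Finite.exists_comp_eq_id_of_projective B P
  set Eb : Matrix (Fin r) (Fin r) B := LinearMap.toMatrix' (g ∘ₗ f) with hEb
  have hfg' : ∀ y, f (g y) = y := fun y => LinearMap.congr_fun hfg y
  have hEbmul : ∀ v, Eb *ᵥ v = g (f v) := fun v => by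
    rw [hEb, LinearMap.toMatrix'_mulVec]; rfl
  have hEb2 : Eb * Eb = Eb := by
    rw [hEb, ← LinearMap.toMatrix'_comp]
    congr 1
    refine LinearMap.ext fun v => ?_
    show g (f (g (f v))) = g (f v)
    rw [hfg']
  obtain ⟨E, hE2, hEΦ⟩ := hlift r Eb hEb2
  set eE : (Fin r → A) →ₗ[A] (Fin r → A) := Matrix.toLin' E with heE
  have heE2 : ∀ x, eE (eE x) = eE x := by
    intro x
    rw [heE, ← LinearMap.comp_apply, ← Matrix.toLin'_mul, hE2]
  have hcompat : ∀ x : Fin r → A, (fun i => Φ (eE x i)) = Eb *ᵥ (fun i => Φ (x i)) := by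
    intro x
    funext i
    rw [heE, Matrix.toLin'_apply, RingHom.map_mulVec, ← hEΦ]
    rfl
  let P' : Submodule A (Fin r → A) := LinearMap.range eE
  have hfix : ∀ x : P', eE x.1 = x.1 := by
    rintro ⟨_, y, rfl⟩
    exact heE2 y
  let s : (Fin r → A) →ₗ[A] P' := eE.rangeRestrict
  have hs : ∀ x : P', s x.1 = x := fun x => Subtype.ext (hfix x)
  have hfin : Module.Finite A P' := Module.Finite.range eE
  have hproj : Module.Projective A P' :=
    Module.Projective.of_split P'.subtype s (LinearMap.ext fun x => hs x)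
  let π : P' →ₛₗ[Φ] P :=
    { toFun := fun x => f (fun i => Φ (x.1 i))
      map_add' := fun x y => by
        rw [← map_add]
        congr 1
        funext i
        simp
      map_smul' := fun a x => by
        rw [← map_smul]
        congr 1
        funext i
        simp }
  have hπ : ∀ x : P', π x = f (fun i => Φ (x.1 i)) := fun _ => rfl
  refine ⟨P', inferInstance, inferInstance, hfin, hproj, π, ?_, ?_⟩
  · intro y
    have h1 : ∀ i, ∃ a : A, Φ a = g y i := fun i => hΦ _
    choose x hx using h1
    refine ⟨s x, ?_⟩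
    rw [hπ]
    have : (fun i => Φ ((s x).1 i)) = g y := by
      have h2 : (s x).1 = eE x := rfl
      rw [h2, hcompat, hEbmul]
      have : (fun i => Φ (x i)) = g y := funext hx
      rw [this, hfg']
    rw [this, hfg']
  · apply le_antisymm
    · intro x hx
      rw [LinearMap.mem_ker, hπ] at hx
      have h1 : (fun i => Φ (x.1 i)) = 0 := by
        have h2 := hcompat x.1
        rw [hfix x, hEbmul, hx, map_zero] at h2
        exact h2
      have h3 : ∀ i, x.1 i ∈ RingHom.ker Φ := fun i => congrFun h1 i
      have h4 : x = ∑ i, x.1 i • s (Pi.single i 1) := by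
        have h5 : s x.1 = s (∑ i, x.1 i • Pi.single (M := fun _ => A) i 1) :=
          congrArg s (pi_eq_sum_univ' x.1)
        rw [map_sum] at h5
        calc x = s x.1 := (hs x).symm
          _ = ∑ i, s (x.1 i • Pi.single (M := fun _ => A) i 1) := h5
          _ = _ := Finset.sum_congr rfl fun i _ => map_smul _ _ _
      rw [h4]
      exact Submodule.sum_mem _ fun i _ => Submodule.smul_mem_smul (h3 i) Submodule.mem_top
    · rw [Submodule.smul_le]
      intro a ha x _
      rw [LinearMap.mem_ker, π.map_smulₛₗ, (RingHom.mem_ker).mp ha, zero_smul]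

end AbstractLift

end Groth.Agent.H8.WProj
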