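import Mathlib
import Groth.Agent.Lib.Helper8.WProj.NilE

set_option autoImplicit false

universe u v

namespace Groth.Agent.H8.WProj

open Groth.Agent.H8.Disp

section AbstractUnique

variable {A B : Type u} [CommRing A] [CommRing B] (Φ : A →+* B)

theorem exists_surjective_lift (hJ : RingHom.ker Φ ≤ Ideal.jacobson (⊥ : Ideal A))
    {P : Type v} [AddCommGroup P] [Module B P]
    {P₁ : Type v} [AddCommGroup P₁] [Module A P₁] [Module.Projective A P₁]
    {P₂ : Type v} [AddCommGroup P₂] [Module A P₂] [Module.Finite A P₂]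
    (π₁ : P₁ →ₛₗ[Φ] P) (π₂ : P₂ →ₛₗ[Φ] P) (h₁ : Function.Surjective π₁)
    (h₂ : Function.Surjective π₂)
    (hk₂ : LinearMap.ker π₂ = RingHom.ker Φ • (⊤ : Submodule A P₂)) :
    ∃ e : P₁ →ₗ[A] P₂, Function.Surjective e ∧ ∀ x, π₂ (e x) = π₁ x := by
  letI : Module A P := Module.compHom P Φ
  let π₁' : P₁ →ₗ[A] P :=
    { toFun := π₁
      map_add' := π₁.map_add
      map_smul' := fun a x => π₁.map_smulₛₗ a x }
  let π₂' : P₂ →ₗ[A] P :=
    { toFun := π₂
      map_add' := π₂.map_add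
      map_smul' := fun a x => π₂.map_smulₛₗ a x }
  obtain ⟨e, he⟩ := Module.projective_lifting_property π₂' π₁' h₂
  have he' : ∀ x, π₂ (e x) = π₁ x := fun x => LinearMap.congr_fun he x
  refine ⟨e, ?_, he'⟩
  rw [← LinearMap.range_eq_top]
  apply eq_top_of_sup_smul_top hJ
  intro y
  obtain ⟨x, hx⟩ := h₁ (π₂ y)
  refine ⟨e x, LinearMap.mem_range_self e x, ?_⟩
  rw [← hk₂, LinearMap.mem_ker, map_sub, he', hx, sub_self]

theorem exists_equiv_of_lifts (hJ : RingHom.ker Φ ≤ Ideal.jacobson (⊥ : Ideal A))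
    {P : Type v} [AddCommGroup P] [Module B P]
    {P₁ : Type v} [AddCommGroup P₁] [Module A P₁] [Module.Finite A P₁] [Module.Projective A P₁]
    {P₂ : Type v} [AddCommGroup P₂] [Module A P₂] [Module.Finite A P₂] [Module.Projective A P₂]
    (π₁ : P₁ →ₛₗ[Φ] P) (π₂ : P₂ →ₛₗ[Φ] P) (h₁ : Function.Surjective π₁)
    (hk₁ : LinearMap.ker π₁ = RingHom.ker Φ • (⊤ : Submodule A P₁))
    (h₂ : Function.Surjective π₂)
    (hk₂ : LinearMap.ker π₂ = RingHom.ker Φ • (⊤ : Submodule A P₂)) :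
    ∃ e : P₁ ≃ₗ[A] P₂, ∀ x, π₂ (e x) = π₁ x := by
  obtain ⟨e, hes, he⟩ := exists_surjective_lift Φ hJ π₁ π₂ h₁ h₂ hk₂
  obtain ⟨e', hes', he'⟩ := exists_surjective_lift Φ hJ π₂ π₁ h₂ h₁ hk₁
  have h1 : Function.Surjective (e' ∘ₗ e) := hes'.comp hes
  have h2 : Function.Injective (e' ∘ₗ e) :=
    OrzechProperty.injective_of_surjective_endomorphism _ h1
  have h3 : Function.Injective e := fun x y hxy => h2 (by
    show e' (e x) = e' (e y)
    rw [hxy])
  exact ⟨LinearEquiv.ofBijective e ⟨h3, hes⟩, he⟩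

end AbstractUnique

end Groth.Agent.H8.WProj
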