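import Mathlib
import Groth.Agent.Lib.Helper8.WProj.NilF

set_option autoImplicit false

universe u v

namespace Groth.Agent.H8.WProj

open Groth.Agent.H8.Disp

section WittLift

variable {p : ℕ} [Fact p.Prime] {S R : Type u} [CommRing S] [CommRing R]

theorem witt_idempotent_lift (φ : S →+* R) (hφ : Function.Surjective φ)
    (hnil : ∀ a : S, φ a = 0 → IsNilpotent a) (r : ℕ)
    (Eb : Matrix (Fin r) (Fin r) (WittVector p R)) (hEb : Eb * Eb = Eb) :
    ∃ E : Matrix (Fin r) (Fin r) (WittVector p S), E * E = E ∧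
      (WittVector.map (p := p) φ).mapMatrix E = Eb := by
  classical
  have hΦ : Function.Surjective (WittVector.map (p := p) φ) := WittVector.map_surjective φ hφ
  have h1 : ∀ i j, ∃ a : WittVector p S, WittVector.map (p := p) φ a = Eb i j := fun i j => hΦ _
  choose a₀ ha₀ using h1
  set E₀ : Matrix (Fin r) (Fin r) (WittVector p S) := Matrix.of a₀ with hE₀
  have hE₀Φ : (WittVector.map (p := p) φ).mapMatrix E₀ = Eb := by
    refine Matrix.ext fun i j => ?_
    rw [RingHom.mapMatrix_apply, Matrix.map_apply]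
    exact ha₀ i j
  have hD : ∀ i j, (E₀ * E₀ - E₀) i j ∈ RingHom.ker (WittVector.map (p := p) φ) := by
    intro i j
    have h2 : (WittVector.map (p := p) φ).mapMatrix (E₀ * E₀ - E₀) = 0 := by
      rw [map_sub, map_mul, hE₀Φ, hEb, sub_self]
    have h3 := congrFun (congrFun h2 i) j
    rw [RingHom.mapMatrix_apply, Matrix.map_apply, Matrix.zero_apply] at h3
    exact h3
  set 𝔧 : Ideal (WittVector p S) :=
    Ideal.span (Set.range fun ij : Fin r × Fin r => (E₀ * E₀ - E₀) ij.1 ij.2) with h𝔧
  have hfg : 𝔧.FG := Submodule.fg_span (Set.finite_range _)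
  have hle : 𝔧 ≤ RingHom.ker (WittVector.map (p := p) φ) := by
    rw [h𝔧, Ideal.span_le]
    rintro _ ⟨ij, rfl⟩
    exact hD ij.1 ij.2
  have h₀ : ∀ i j, (E₀ * E₀ - E₀) i j ∈ 𝔧 := fun i j => Ideal.subset_span ⟨(i, j), rfl⟩
  obtain ⟨E, hE2, hE⟩ := exists_idempotent_matrix (fun n => IT p S (n + 1))
    (fun m n hmn => IT_antitone (Nat.succ_le_succ hmn)) IT_complete IT_sep 𝔧
    (fun n => exists_pow_le_IT φ hnil hfg hle (n + 1)) E₀ h₀
  refine ⟨E, hE2, ?_⟩
  rw [← hE₀Φ]
  refine Matrix.ext fun i j => ?_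
  rw [RingHom.mapMatrix_apply, RingHom.mapMatrix_apply, Matrix.map_apply, Matrix.map_apply,
    ← sub_eq_zero, ← map_sub, ← RingHom.mem_ker]
  apply mem_ker_map_of_forall
  intro n
  obtain ⟨t, ht, hd⟩ := hE i j n
  exact ⟨t, ht, hle hd⟩

theorem witt_lift_finite_projective (φ : S →+* R) (hφ : Function.Surjective φ)
    (hnil : ∀ a : S, φ a = 0 → IsNilpotent a)
    (P : Type u) [AddCommGroup P] [Module (WittVector p R) P]
    [Module.Finite (WittVector p R) P] [Module.Projective (WittVector p R) P] :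
    ∃ (P' : Type u) (_ : AddCommGroup P') (_ : Module (WittVector p S) P'),
      Module.Finite (WittVector p S) P' ∧ Module.Projective (WittVector p S) P' ∧
        ∃ π : P' →ₛₗ[WittVector.map (p := p) φ] P, Function.Surjective π ∧
          LinearMap.ker π =
            RingHom.ker (WittVector.map (p := p) φ) • (⊤ : Submodule (WittVector p S) P') :=
  exists_lift_of_idempotent_lift (WittVector.map (p := p) φ) (WittVector.map_surjective φ hφ)
    (fun r Eb hEb => witt_idempotent_lift φ hφ hnil r Eb hEb) P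

end WittLift

end Groth.Agent.H8.WProj
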